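import Cfsg.Agent.Schur.MathieuMult
import Cfsg.Agent.Schur.M24Data

/-! The combinations of the certificate for the prime two. -/

set_option autoImplicit false

namespace CfsgLib.Schur.M24Check

open CfsgLib.Schur CfsgLib.Schur.Pc CfsgLib.Schur.M24Data CfsgLib.Mathieu

theorem combo_ok : ((List.range cert2.rules.length).all
    fun r => cert2.ruleCheck r (cert2.rules.getD r ([], []))) = true := by decide +kernel

end CfsgLib.Schur.M24Check
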