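import Cfsg.Agent.Schur.MathieuMult
import Cfsg.Agent.Schur.M24Data
import Cfsg.Agent.CosetEnum.Engine

/-! The normal words of the certificate for the prime two have different keys. -/

set_option autoImplicit false

namespace CfsgLib.Schur.M24Check

open CfsgLib.Schur CfsgLib.Schur.Pc CfsgLib.Schur.M24Data CfsgLib.Mathieu

/-- No key repeats, with the keys met kept as bits. -/
def distinctBits : List ℕ → ℕ → Bool
  | [], _ => true
  | a :: l, S => CfsgLib.CosetEnum.force a fun a =>
      !(Nat.testBit S a) && CfsgLib.CosetEnum.force (Nat.lor S (Nat.shiftLeft 1 a)) (distinctBits l)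

theorem distinctBits_spec : ∀ (l : List ℕ) (S : ℕ), distinctBits l S = true →
    l.Nodup ∧ ∀ a ∈ l, Nat.testBit S a = false
  | [], _, _ => ⟨List.nodup_nil, by simp⟩
  | a :: l, S, h => by
    simp only [distinctBits, CfsgLib.CosetEnum.force_eq, Bool.and_eq_true, Bool.not_eq_true'] at h
    obtain ⟨ha, hl⟩ := h
    obtain ⟨hn, hb⟩ := distinctBits_spec l _ hl
    have hb' : ∀ b ∈ l, Nat.testBit S b = false ∧ b ≠ a := fun b hbl => by
      have h1 : (S ||| 1 <<< a).testBit b = false := hb b hbl
      rw [Nat.testBit_or, Bool.or_eq_false_iff, Nat.one_shiftLeft, Nat.testBit_two_pow,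
        decide_eq_false_iff_not] at h1
      exact ⟨h1.1, Ne.symm h1.2⟩
    refine ⟨List.nodup_cons.2 ⟨fun hm => (hb' a hm).2 rfl, hn⟩, ?_⟩
    intro b hbm
    rcases List.mem_cons.1 hbm with rfl | hbm
    · exact ha
    · exact (hb' b hbm).1

theorem keys_distinct :
    distinctBits ((normalWords cert2.p cert2.n 0).map (wordKey cert2Xs cert2Base)) 0 = true := by
  decide +kernel

theorem keys_nodup : ((normalWords cert2.p cert2.n 0).map (wordKey cert2Xs cert2Base)).Nodup :=
  (distinctBits_spec _ _ keys_distinct).1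

end CfsgLib.Schur.M24Check
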