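import Cfsg.Agent.Schur.M24Check.Eqs
import Cfsg.Agent.Schur.M24Check.Combo
import Cfsg.Agent.Schur.M24Check.Keys

/-! The checks of the certificate for the prime two. -/

set_option autoImplicit false

namespace CfsgLib.Schur.M24Check

open CfsgLib.Schur CfsgLib.Schur.Pc CfsgLib.Schur.M24Data CfsgLib.Mathieu

theorem cert2_tables : tablesOK cert2 cert2Xs cert2Gs cert2Base = true := by
  have hw := Bool.and_eq_true_iff.mp words_ok
  have hc : cert2.check = true := by
    rw [Cert.check, shaped_ok, equations_ok, combo_ok]
    rfl
  have hlen : decide (cert2Gs.length = cert2.fus.length) = true := by decide +kernel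
  have hb : cert2Base.all (fun b => decide (b < 24)) = true := by decide +kernel
  rw [tablesOK, hc, hw.1, hw.2, hlen, hb, decide_eq_true keys_nodup]
  rfl

end CfsgLib.Schur.M24Check
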