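import Cfsg.Agent.Schur.MathieuMult
import Cfsg.Agent.Schur.M24Data

/-! The equations of the certificate for the prime two. -/

set_option autoImplicit false
set_option Elab.async false

namespace CfsgLib.Schur.M24Check

open CfsgLib.Schur CfsgLib.Schur.Pc CfsgLib.Schur.M24Data CfsgLib.Mathieu

theorem shaped_ok : shaped cert2.p cert2.n cert2.rules = true := by decide +kernel

theorem equations_ok : (cert2.equations == cert2.eqs) = true := by decide +kernel

theorem words_ok : (cert2.rules.all (fun l => wordEq cert2Xs l.1 l.2) &&
    (cert2.fus.zip cert2Gs).all (fun F => (List.range cert2.fusW).all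
      fun s => wordConj cert2Xs F.2 (F.1.1.getD s []) (F.1.2.getD s []))) = true := by
  decide +kernel

end CfsgLib.Schur.M24Check
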